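import Groth.Agent.L15.ExtZero.CounitMono
import Groth.Prelude.Def_ModSite2
import Mathlib.CategoryTheory.Sites.Point.Over
import Mathlib.CategoryTheory.Yoneda

/-! The stalks of an extension by zero on a site. -/

set_option autoImplicit false
set_option backward.defeqAttrib.useBackward true
set_option backward.isDefEq.respectTransparency false

universe u

open CategoryTheory CategoryTheory.Limits Opposite

noncomputable section

namespace Groth.L10.ExtZeroStalk

open Groth.L15.ExtZero

attribute [local instance] Classical.propDecidable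

variable {C : Type u} [SmallCategory C] {J : GrothendieckTopology C} {O : Sheaf J CommRingCat.{u}} {U : C}

theorem back_injective {A : ModSite.Mod (O.over U)} {N : ModSite.Mod O} :
    Function.Injective (back : (jVal A ⟶ N.val) → (A ⟶ (ModSite.restr O U).obj N)) := fun k k' h => by
  refine PresheafOfModules.hom_ext fun Z => ModuleCat.hom_ext (LinearMap.ext fun c => ?_)
  suffices hs : ((k.app Z).hom.toAddMonoidHom : Tot U (val' A) Z →+ _) = (k'.app Z).hom.toAddMonoidHom from
    DFunLike.congr_fun hs c
  refine DirectSum.addHom_ext fun s x => ?_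
  exact ConcreteCategory.congr_hom (congrArg (fun q : A ⟶ (ModSite.restr O U).obj N =>
    q.val.app (op (Over.mk s))) h) x

/-- The sheaf associated with the presheaf extension. -/
abbrev shExt (A : ModSite.Mod (O.over U)) : ModSite.Mod O :=
  (PresheafOfModules.sheafification.{u} (𝟙 (ModSite.ringSh O).obj)).obj (jVal A)

theorem nonempty_iso_shExt (A : ModSite.Mod (O.over U)) :
    Nonempty ((ModSite.extZero O U).obj A ≅ shExt A) := by
  let sadj := PresheafOfModules.sheafificationAdjunction (𝟙 (ModSite.ringSh O).obj)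
  let eadj := ModSite.extZeroAdj O U
  have hb : ∀ M : ModSite.Mod O, Function.Bijective
      (back : (jVal A ⟶ M.val) → (A ⟶ (ModSite.restr O U).obj M)) :=
    fun M => ⟨back_injective, fun g => ⟨_, back_lift g⟩⟩
  let H : ∀ M : ModSite.Mod O, (shExt A ⟶ M) ≃ ((ModSite.extZero O U).obj A ⟶ M) := fun M =>
    ((sadj.homEquiv (jVal A) M).trans (Equiv.ofBijective _ (hb M))).trans (eadj.homEquiv A M).symm
  have hH : ∀ (M M' : ModSite.Mod O) (a : shExt A ⟶ M) (f : M ⟶ M'), H M' (a ≫ f) = H M a ≫ f := by
    intro M M' a f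
    show (eadj.homEquiv A M').symm (back (sadj.homEquiv (jVal A) M' (a ≫ f))) =
      (eadj.homEquiv A M).symm (back (sadj.homEquiv (jVal A) M a)) ≫ f
    rw [← eadj.homEquiv_naturality_right_symm, back_comp]
    exact congrArg (fun q => (eadj.homEquiv A M').symm (back q)) (sadj.homEquiv_naturality_right a f)
  exact ⟨{ hom := H _ (𝟙 _), inv := (H _).symm (𝟙 _),
           hom_inv_id := by rw [← hH, Category.id_comp, Equiv.apply_symm_apply],
           inv_hom_id := (H _).injective (by rw [hH, Equiv.apply_symm_apply, Category.id_comp]) }⟩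

variable (A : ModSite.Mod (O.over U)) (p : GrothendieckTopology.Point.{u} J)

/-- The stalks of the module at the points over `p`. -/
abbrev sts (x : p.fiber.obj U) : AddCommGrpCat.{u} := ModSite.stalkAb (p.over x) A

/-- The presheaf of the extension. -/
abbrev jA : Cᵒᵖ ⥤ AddCommGrpCat.{u} := jAb U (val' A)

/-- The inclusion of a summand. -/
def incl (T : Over U) : (PresheafOfModules.presheaf (val' A)).obj (op T) ⟶ (jA A).obj (op T.left) :=
  AddCommGrpCat.ofHom (DirectSum.of (fun s => Fib U (val' A) (op T.left) s) T.hom)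

theorem incl_natural {T T' : Over U} (m : T' ⟶ T) :
    (PresheafOfModules.presheaf (val' A)).map m.op ≫ incl A T' = incl A T ≫ (jA A).map m.left.op := by
  refine AddCommGrpCat.hom_ext (AddMonoidHom.ext fun (x : (val' A).obj (op T)) => ?_)
  show DirectSum.of (fun s => Fib U (val' A) (op T'.left) s) T'.hom _ =
    totMap U (val' A) m.left.op (DirectSum.of (fun s => Fib U (val' A) (op T.left) s) T.hom x)
  rw [totMap_of]
  exact of_congr U (val' A) (W := op T'.left) (t := T'.hom) m
    (Over.homMk m.left : Over.mk (m.left ≫ T.hom) ⟶ T) rfl (Over.w m).symm x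

/-- From one stalk to the stalk of the extension. -/
def fwd (x : p.fiber.obj U) : sts A p x ⟶ p.presheafFiber.obj (jA A) :=
  (p.over x).presheafFiberDesc (P := PresheafOfModules.presheaf (val' A))
    (fun T z => incl A T ≫ p.toPresheafFiber T.left z.1 (jA A))
    (fun T' T m z => by
      rw [← Category.assoc, incl_natural, Category.assoc, p.toPresheafFiber_w]
      rfl)

/-- Germs at the points over `p`. -/
def bwdApp (Z : C) (z : p.fiber.obj Z) : (jA A).obj (op Z) ⟶ ∐ sts A p :=
  AddCommGrpCat.ofHom (DirectSum.toAddMonoid fun (s : Z ⟶ U) =>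
    (((p.over (p.fiber.map s z)).toPresheafFiber (Over.mk s) ⟨z, rfl⟩
      (PresheafOfModules.presheaf (val' A))) ≫ Sigma.ι (sts A p) (p.fiber.map s z)).hom)

theorem germ_congr {x x' : p.fiber.obj U} (T : Over U) (z : (p.over x).fiber.obj T)
    (z' : (p.over x').fiber.obj T) (hx : x = x') (hz : z.1 = z'.1) :
    (p.over x).toPresheafFiber T z (PresheafOfModules.presheaf (val' A)) ≫ Sigma.ι (sts A p) x =
      (p.over x').toPresheafFiber T z' (PresheafOfModules.presheaf (val' A)) ≫ Sigma.ι (sts A p) x' := by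
  subst hx
  rw [show z = z' from Subtype.ext hz]

theorem incl_bwdApp (T : Over U) (z : p.fiber.obj T.left) :
    incl A T ≫ bwdApp A p T.left z =
      (p.over (p.fiber.map T.hom z)).toPresheafFiber T ⟨z, rfl⟩ (PresheafOfModules.presheaf (val' A)) ≫
        Sigma.ι (sts A p) (p.fiber.map T.hom z) := by
  refine AddCommGrpCat.hom_ext (AddMonoidHom.ext fun x => ?_)
  change bwdApp A p T.left z (incl A T x) = _
  simp only [incl, bwdApp]
  erw [DirectSum.toAddMonoid_of]
  rfl

theorem bwdApp_natural {Z' Z : C} (g : Z' ⟶ Z) (z : p.fiber.obj Z') :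
    (jA A).map g.op ≫ bwdApp A p Z' z = bwdApp A p Z (p.fiber.map g z) := by
  refine AddCommGrpCat.hom_ext (DirectSum.addHom_ext fun s x => ?_)
  show bwdApp A p Z' z (totMap U (val' A) g.op (DirectSum.of _ s x)) = bwdApp A p Z _ (DirectSum.of _ s x)
  rw [totMap_of]
  let m : Over.mk (g ≫ s) ⟶ Over.mk s := Over.homMk g
  have h1 := ConcreteCategory.congr_hom (incl_bwdApp A p (Over.mk (g ≫ s)) z)
    ((PresheafOfModules.presheaf (val' A)).map m.op x)
  have h2 := ConcreteCategory.congr_hom (incl_bwdApp A p (Over.mk s) (p.fiber.map g z)) x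
  refine h1.trans (Eq.trans ?_ h2.symm)
  have e : p.fiber.map (g ≫ s) z = p.fiber.map s (p.fiber.map g z) := by
    rw [Functor.map_comp]; rfl
  have h3 := (p.over (p.fiber.map (g ≫ s) z)).toPresheafFiber_w m ⟨z, rfl⟩
    (PresheafOfModules.presheaf (val' A))
  refine (ConcreteCategory.congr_hom
    (((Category.assoc _ _ _).symm.trans (congrArg (· ≫ Sigma.ι (sts A p) _) h3)).trans
      (germ_congr A p (Over.mk s) _ ⟨p.fiber.map g z, rfl⟩ e rfl)) x)

/-- From the stalk of the extension to the sum of the stalks. -/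
def bwd : p.presheafFiber.obj (jA A) ⟶ ∐ sts A p :=
  p.presheafFiberDesc (bwdApp A p) (fun _ _ g z => bwdApp_natural A p g z)

theorem fac_bwd (Z : C) (z : p.fiber.obj Z) :
    p.toPresheafFiber Z z (jA A) ≫ bwd A p = bwdApp A p Z z :=
  p.toPresheafFiber_presheafFiberDesc _ (fun _ _ g z => bwdApp_natural A p g z) Z z

theorem fac_fwd (x : p.fiber.obj U) (T : Over U) (z : (p.over x).fiber.obj T) :
    (p.over x).toPresheafFiber T z (PresheafOfModules.presheaf (val' A)) ≫ fwd A p x =
      incl A T ≫ p.toPresheafFiber T.left z.1 (jA A) :=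
  (p.over x).toPresheafFiber_presheafFiberDesc _ _ T z

/-- The stalk of the presheaf extension. -/
def stalkIso : p.presheafFiber.obj (jA A) ≅ ∐ sts A p where
  hom := bwd A p
  inv := Sigma.desc (fwd A p)
  hom_inv_id := p.presheafFiber_hom_ext fun Z z => by
    rw [← Category.assoc, fac_bwd, Category.comp_id]
    refine AddCommGrpCat.hom_ext (DirectSum.addHom_ext fun s x => ?_)
    have h1 : incl A (Over.mk s) ≫ bwdApp A p Z z ≫ Sigma.desc (fwd A p) =
        incl A (Over.mk s) ≫ p.toPresheafFiber Z z (jA A) := by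
      rw [← Category.assoc]
      refine (congrArg (· ≫ Sigma.desc (fwd A p)) (incl_bwdApp A p (Over.mk s) z)).trans ?_
      rw [Category.assoc, Sigma.ι_desc]
      exact fac_fwd A p _ (Over.mk s) ⟨z, rfl⟩
    exact ConcreteCategory.congr_hom h1 x
  inv_hom_id := Sigma.hom_ext _ _ fun x => by
    rw [Sigma.ι_desc_assoc, Category.comp_id]
    refine (p.over x).presheafFiber_hom_ext fun T z => ?_
    refine ((Category.assoc _ _ _).symm.trans (congrArg (· ≫ bwd A p) (fac_fwd A p x T z))).trans ?_
    rw [Category.assoc, fac_bwd]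
    exact (incl_bwdApp A p T z.1).trans (germ_congr A p T _ _ z.2 rfl)

theorem nonempty_stalkAb_extZero_iso :
    Nonempty (ModSite.stalkAb p ((ModSite.extZero O U).obj A) ≅ ∐ sts A p) := by
  obtain ⟨e⟩ := nonempty_iso_shExt A
  let sadj := PresheafOfModules.sheafificationAdjunction (𝟙 (ModSite.ringSh O).obj)
  let η := (PresheafOfModules.toPresheaf _).map (sadj.unit.app (jVal A))
  have hη : η = CategoryTheory.toSheafify J (jVal A).presheaf :=
    PresheafOfModules.toPresheaf_map_sheafificationAdjunction_unit_app _ _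
  haveI : IsIso (p.presheafFiber.map η) :=
    p.W_isInvertedBy_presheafFiber' η (hη ▸ J.W_toSheafify _)
  exact ⟨(p.sheafFiber (A := AddCommGrpCat.{u})).mapIso ((SheafOfModules.toSheaf (ModSite.ringSh O)).mapIso e) ≪≫
    (asIso (p.presheafFiber.map η)).symm ≪≫ stalkIso A p⟩

end Groth.L10.ExtZeroStalk
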